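import Mathlib

set_option autoImplicit false
universe u

namespace Groth.Agent.H5.GenSmAff

theorem main (k : Type u) [Field k]
    (A B : Type u) [CommRing A] [CommRing B] [IsDomain A] [IsDomain B] [Algebra k A] [Algebra k B] [Algebra A B] [IsScalarTower k A B]
    [Algebra.FiniteType k A] [Algebra.FiniteType k B]
    (K L : Type u) [Field K] [Field L] [Algebra A K] [IsFractionRing A K] [Algebra B L] [IsFractionRing B L]
    [Algebra K L] [Algebra A L] [IsScalarTower A B L] [IsScalarTower A K L]
    (n : ℕ) (a : Fin n → L) (ha : IsTranscendenceBasis K a)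
    (hsep : Algebra.IsSeparable ↥(IntermediateField.adjoin K (Set.range a)) L) :
    ∃ g : B, g ≠ 0 ∧ ∀ (C : Type u) [CommRing C] [Algebra B C] [IsLocalization.Away g C] [Algebra A C] [IsScalarTower A B C],
      Algebra.Smooth A C := by
  haveI : Algebra.FormallySmooth K L := Algebra.FormallySmooth.of_algebraicIndependent_of_isSeparable ha.1
  haveI : Algebra.FormallySmooth A K := Algebra.FormallySmooth.of_isLocalization (nonZeroDivisors A)
  haveI : Algebra.FormallySmooth A L := Algebra.FormallySmooth.comp A K L
  haveI : IsNoetherianRing A := Algebra.FiniteType.isNoetherianRing k A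
  haveI : Algebra.FiniteType A B := Algebra.FiniteType.of_restrictScalars_finiteType k A B
  haveI : Algebra.FinitePresentation A B := Algebra.FinitePresentation.of_finiteType.mp inferInstance
  have hcompl : (⊥ : Ideal B).primeCompl = nonZeroDivisors B := by
    ext x
    simp [Ideal.primeCompl, mem_nonZeroDivisors_iff_ne_zero]
  haveI : IsLocalization (⊥ : Ideal B).primeCompl L := by
    rw [hcompl]; infer_instance
  let e : L ≃ₐ[A] Localization.AtPrime (⊥ : Ideal B) :=
    (IsLocalization.algEquiv (⊥ : Ideal B).primeCompl L (Localization.AtPrime (⊥ : Ideal B))).restrictScalars A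
  have hbot : (⟨⊥, Ideal.isPrime_bot⟩ : PrimeSpectrum B) ∈ Algebra.smoothLocus A B := by
    show Algebra.FormallySmooth A (Localization.AtPrime (⊥ : Ideal B))
    exact Algebra.FormallySmooth.of_equiv e
  obtain ⟨_, ⟨g, rfl⟩, hg1, hg2⟩ := PrimeSpectrum.isTopologicalBasis_basic_opens.exists_subset_of_mem_open
    hbot Algebra.isOpen_smoothLocus
  refine ⟨g, ?_, ?_⟩
  · rintro rfl
    simp at hg1
  · intro C _ _ _ _ _
    have hsm : Algebra.Smooth A (Localization.Away g) := Algebra.basicOpen_subset_smoothLocus_iff_smooth.mp hg2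
    let e2 : Localization.Away g ≃ₐ[A] C :=
      (IsLocalization.algEquiv (Submonoid.powers g) (Localization.Away g) C).restrictScalars A
    exact Algebra.Smooth.of_equiv e2

end Groth.Agent.H5.GenSmAff
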